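import Mathlib
import Groth.Agent.TorLib.Basic

/-!
`Tor` of `A / (x_1, …, x_k)` for a regular sequence, by the long exact sequence of each step.
-/

open CategoryTheory CategoryTheory.Limits MonoidalCategory RingTheory.Sequence

universe u

namespace Groth.Agent.TorRegLib

open TorLib

variable {A : Type u} [CommRing A] {N : ModuleCat.{u} A} (P : ProjectiveResolution N)

theorem homologyMap_cxMap_smul (M : ModuleCat.{u} A) (r : A) (n : ℕ) :
    HomologicalComplex.homologyMap (cxMap P (r • 𝟙 M)) n =
      r • 𝟙 ((cx P M).homology n) := by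
  have h : cxMap P (r • 𝟙 M) = r • 𝟙 (cx P M) := by
    ext i : 1
    show (r • 𝟙 M) ▷ P.complex.X i = r • 𝟙 (M ⊗ P.complex.X i)
    rw [MonoidalLinear.smul_whiskerRight, MonoidalCategory.id_whiskerRight]
  rw [h]
  show ShortComplex.homologyMap ((HomologicalComplex.shortComplexFunctor _ _ n).map (r • 𝟙 _)) = _
  rw [show (HomologicalComplex.shortComplexFunctor (ModuleCat.{u} A) (ComplexShape.down ℕ) n).map (r • 𝟙 (cx P M)) =
    r • 𝟙 _ by ext <;> rfl, ShortComplex.homologyMap_smul, ShortComplex.homologyMap_id]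
  rfl

/-- The next step `0 → A/I --r--> A/I → A/I' → 0`. -/
noncomputable def stepSeq {I I' : Ideal A} (hle : I ≤ I') {r : A} (hr : r ∈ I') :
    ShortComplex (ModuleCat.{u} A) :=
  ShortComplex.mk (X₁ := ModuleCat.of A (A ⧸ I)) (X₂ := ModuleCat.of A (A ⧸ I))
    (X₃ := ModuleCat.of A (A ⧸ I')) (r • 𝟙 _) (ModuleCat.ofHom (Submodule.factor hle)) (by
      refine ModuleCat.hom_ext (LinearMap.ext fun y => ?_)
      obtain ⟨t, rfl⟩ := Submodule.Quotient.mk_surjective _ y
      show Submodule.factor hle (r • Submodule.Quotient.mk t) = 0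
      rw [map_smul]
      show Submodule.Quotient.mk (r • t) = (0 : A ⧸ I')
      rw [Submodule.Quotient.mk_eq_zero, smul_eq_mul]
      exact Ideal.mul_mem_right _ _ hr)

theorem stepSeq_shortExact {I I' : Ideal A} (hle : I ≤ I') {r : A} (hr : r ∈ I')
    (hI' : I' ≤ I ⊔ Ideal.span {r}) (hreg : IsSMulRegular (A ⧸ I) r) :
    (stepSeq hle hr).ShortExact where
  exact := by
    rw [ShortComplex.moduleCat_exact_iff]
    intro y hy
    obtain ⟨t, rfl⟩ := Submodule.Quotient.mk_surjective _ y
    have ht := hI' ((Submodule.Quotient.mk_eq_zero _).mp hy)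
    rw [Submodule.mem_sup] at ht
    obtain ⟨u, hu, v, hv, rfl⟩ := ht
    obtain ⟨z, rfl⟩ := Ideal.mem_span_singleton'.mp hv
    refine ⟨Submodule.Quotient.mk z, ?_⟩
    show r • Submodule.Quotient.mk z = (Submodule.Quotient.mk (u + z * r) : A ⧸ I)
    rw [← Submodule.Quotient.mk_smul, Submodule.Quotient.eq, smul_eq_mul,
      show r * z - (u + z * r) = -u by ring]
    exact neg_mem hu
  mono_f := (ModuleCat.mono_iff_injective _).mpr hreg
  epi_g := (ModuleCat.epi_iff_surjective _).mpr (Submodule.factor_surjective hle)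

variable {I I' : Ideal A} {hle : I ≤ I'} {r : A} {hr : r ∈ I'}

section
variable (hS : (stepSeq hle hr).ShortExact) (n : ℕ)
include hS

theorem exists_smul_eq (hv : IsZero ((cx P (ModuleCat.of A (A ⧸ I'))).homology n))
    (z : (cx P (ModuleCat.of A (A ⧸ I))).homology n) : ∃ w, r • w = z := by
  have h := (cxSeq_shortExact P hS).homology_exact₂ n
  rw [ShortComplex.moduleCat_exact_iff] at h
  haveI := ModuleCat.subsingleton_of_isZero hv
  obtain ⟨w, hw⟩ := h z (Subsingleton.elim (α := (cx P (ModuleCat.of A (A ⧸ I'))).homology n) _ _)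
  refine ⟨w, ?_⟩
  have h2 := homologyMap_cxMap_smul P (ModuleCat.of A (A ⧸ I)) r n
  exact (ConcreteCategory.congr_hom h2 w).symm.trans hw

theorem isSMulRegular_of_isZero (hv : IsZero ((cx P (ModuleCat.of A (A ⧸ I'))).homology (n + 1))) :
    IsSMulRegular ((cx P (ModuleCat.of A (A ⧸ I))).homology n) r := by
  intro a b hab
  rw [← sub_eq_zero]
  have hz : r • (a - b) = 0 := by rw [smul_sub]; exact sub_eq_zero.mpr hab
  generalize a - b = z at hz ⊢
  have h := (cxSeq_shortExact P hS).homology_exact₁ (n + 1) n (by simp)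
  rw [ShortComplex.moduleCat_exact_iff] at h
  obtain ⟨w, hw⟩ := h z ((ConcreteCategory.congr_hom
    (homologyMap_cxMap_smul P (ModuleCat.of A (A ⧸ I)) r n) z).trans hz)
  haveI := ModuleCat.subsingleton_of_isZero hv
  rw [← hw, Subsingleton.elim (α := (cx P (ModuleCat.of A (A ⧸ I'))).homology (n + 1)) w 0]
  exact map_zero _

theorem isZero_succ (hv : IsZero ((cx P (ModuleCat.of A (A ⧸ I))).homology (n + 1)))
    (hinj : IsSMulRegular ((cx P (ModuleCat.of A (A ⧸ I))).homology n) r) :
    IsZero ((cx P (ModuleCat.of A (A ⧸ I'))).homology (n + 1)) := by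
  rw [ModuleCat.isZero_iff_subsingleton]
  refine subsingleton_of_forall_eq 0 fun z => ?_
  have h₁ := (cxSeq_shortExact P hS).homology_exact₁ (n + 1) n (by simp)
  have h₃ := (cxSeq_shortExact P hS).homology_exact₃ (n + 1) n (by simp)
  rw [ShortComplex.moduleCat_exact_iff] at h₃
  set δ := (cxSeq_shortExact P hS).δ (n + 1) n (by simp) with hδ
  have h0 : δ z = 0 := by
    refine hinj ?_
    show r • δ z = r • 0
    rw [smul_zero]
    refine ((ConcreteCategory.congr_hom
      (homologyMap_cxMap_smul P (ModuleCat.of A (A ⧸ I)) r n) (δ z)).symm.trans ?_)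
    exact ConcreteCategory.congr_hom ((cxSeq_shortExact P hS).δ_comp (n + 1) n (by simp)) z
  obtain ⟨w, hw⟩ := h₃ z h0
  haveI := ModuleCat.subsingleton_of_isZero hv
  rw [← hw, Subsingleton.elim (α := (cx P (ModuleCat.of A (A ⧸ I))).homology (n + 1)) w 0]
  exact map_zero _

theorem finite_succ [IsNoetherianRing A]
    [Module.Finite A ((cx P (ModuleCat.of A (A ⧸ I))).homology (n + 1))]
    [Module.Finite A ((cx P (ModuleCat.of A (A ⧸ I))).homology n)] :
    Module.Finite A ((cx P (ModuleCat.of A (A ⧸ I'))).homology (n + 1)) := by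
  let δ : (cx P (ModuleCat.of A (A ⧸ I'))).homology (n + 1) →ₗ[A] (cx P (ModuleCat.of A (A ⧸ I))).homology n :=
    ((cxSeq_shortExact P hS).δ (n + 1) n (by simp)).hom
  let q : (cx P (ModuleCat.of A (A ⧸ I))).homology (n + 1) →ₗ[A] (cx P (ModuleCat.of A (A ⧸ I'))).homology (n + 1) :=
    (HomologicalComplex.homologyMap (cxMap P (stepSeq hle hr).g) (n + 1)).hom
  have h₃ := (ShortComplex.ShortExact.moduleCat_exact_iff_function_exact _).mp
    ((cxSeq_shortExact P hS).homology_exact₃ (n + 1) n (by simp))
  have hexact : Function.Exact q δ := h₃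
  haveI : IsNoetherian A ((cx P (ModuleCat.of A (A ⧸ I))).homology n) := isNoetherian_of_isNoetherianRing_of_finite A _
  haveI : IsNoetherian A ((cx P (ModuleCat.of A (A ⧸ I))).homology (n + 1)) := isNoetherian_of_isNoetherianRing_of_finite A _
  haveI : IsNoetherian A ((cx P (ModuleCat.of A (A ⧸ I'))).homology (n + 1)) :=
    isNoetherian_of_range_eq_ker q δ hexact.linearMap_ker_eq.symm
  exact ⟨IsNoetherian.noetherian _⟩

end

/-- `H_0(A/I ⊗ P) = N / I N`. -/
noncomputable def h0Equiv (I : Ideal A) :
    (cx P (ModuleCat.of A (A ⧸ I))).homology 0 ≃ₗ[A] (N ⧸ (I • ⊤ : Submodule A N)) :=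
  (h0Iso P (ModuleCat.of A (A ⧸ I))).toLinearEquiv.trans (TensorProduct.quotTensorEquivQuotSMul N I)

/-- Weak regularity on a finite module is the vanishing of higher `Tor` with `A / (x)`. -/
theorem isWeaklyRegular_iff [IsNoetherianRing A] [IsLocalRing A] [Module.Finite A N]
    (rs : List A) (hrs : IsWeaklyRegular A rs) (hm : ∀ x ∈ rs, x ∈ IsLocalRing.maximalIdeal A) :
    IsWeaklyRegular N rs ↔
      ∀ i : ℕ, 1 ≤ i → IsZero ((cx P (ModuleCat.of A (A ⧸ Ideal.ofList rs))).homology i) := by
  classical
  let Q : ℕ → Ideal A := fun k => Ideal.ofList (rs.take k)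
  have hQ : ∀ k, ∀ hk : k < rs.length, Q (k + 1) = Q k ⊔ Ideal.span {rs[k]} := fun k hk => by
    simp only [Q, List.take_succ_eq_append_getElem hk, Ideal.ofList_append, Ideal.ofList_singleton]
  have hS : ∀ k, ∀ hk : k < rs.length, ∃ (hle : Q k ≤ Q (k + 1)) (hr : rs[k] ∈ Q (k + 1)),
      (stepSeq hle hr).ShortExact := fun k hk => by
    refine ⟨hQ k hk ▸ le_sup_left, hQ k hk ▸ Submodule.mem_sup_right (Ideal.mem_span_singleton_self _),
      stepSeq_shortExact _ _ (hQ k hk).le ?_⟩
    have := hrs.regular_mod_prev k hk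
    rwa [smul_eq_mul, Ideal.mul_top] at this
  have h0 : ∀ n, IsZero ((cx P (ModuleCat.of A (A ⧸ Q 0))).homology (n + 1)) := fun n => by
    haveI : Module.Flat A (ModuleCat.of A (A ⧸ Q 0)) := by
      refine Module.Flat.of_linearEquiv (Submodule.quotEquivOfEqBot (Q 0) ?_)
      simp [Q]
    exact (HomologicalComplex.exactAt_iff_isZero_homology _ _).mp (exactAt_succ_of_flat P _ n)
  have hfin0 : ∀ k, Module.Finite A ((cx P (ModuleCat.of A (A ⧸ Q k))).homology 0) := fun k =>
    Module.Finite.equiv (h0Equiv P (Q k)).symm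
  have hfin : ∀ k, k ≤ rs.length → ∀ n, Module.Finite A ((cx P (ModuleCat.of A (A ⧸ Q k))).homology n) := by
    intro k
    induction k with
    | zero =>
      intro _ n
      cases n with
      | zero => exact hfin0 0
      | succ n =>
        haveI := ModuleCat.subsingleton_of_isZero (h0 n)
        infer_instance
    | succ k ih =>
      intro hk n
      cases n with
      | zero => exact hfin0 _
      | succ n =>
        obtain ⟨_, _, hs⟩ := hS k hk
        haveI := ih (by omega) (n + 1)
        haveI := ih (by omega) n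
        exact finite_succ P hs n
  have hlast : Q rs.length = Ideal.ofList rs := by simp [Q]
  constructor
  · intro hN
    have key : ∀ k, k ≤ rs.length → ∀ n, IsZero ((cx P (ModuleCat.of A (A ⧸ Q k))).homology (n + 1)) := by
      intro k
      induction k with
      | zero => exact fun _ => h0
      | succ k ih =>
        intro hk n
        obtain ⟨_, _, hs⟩ := hS k hk
        refine isZero_succ P hs n (ih (by omega) n) ?_
        cases n with
        | zero => exact ((h0Equiv P (Q k)).isSMulRegular_congr _).mpr (hN.regular_mod_prev k hk)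
        | succ m =>
          haveI := ModuleCat.subsingleton_of_isZero (ih (by omega) m)
          exact fun a b _ => Subsingleton.elim _ _
    intro i hi
    have := key rs.length le_rfl (i - 1)
    rwa [hlast, Nat.sub_add_cancel hi] at this
  · intro hT
    have key : ∀ j k, k + j = rs.length → ∀ n, IsZero ((cx P (ModuleCat.of A (A ⧸ Q k))).homology (n + 1)) := by
      intro j
      induction j with
      | zero =>
        intro k hk n
        obtain rfl : k = rs.length := by omega
        rw [hlast]; exact hT _ (by omega)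
      | succ j ih =>
        intro k hk n
        obtain ⟨_, _, hs⟩ := hS k (by omega)
        haveI := hfin k (by omega) (n + 1)
        rw [ModuleCat.isZero_iff_subsingleton]
        have hsurj := exists_smul_eq P hs (n + 1) (ih (k + 1) (by omega) n)
        have htop : (⊤ : Submodule A ((cx P (ModuleCat.of A (A ⧸ Q k))).homology (n + 1))) = ⊥ := by
          refine Submodule.eq_bot_of_le_smul_of_le_jacobson_bot (IsLocalRing.maximalIdeal A) ⊤
            Module.Finite.fg_top (fun z _ => ?_) (IsLocalRing.maximalIdeal_le_jacobson _)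
          obtain ⟨w, rfl⟩ := hsurj z
          exact Submodule.smul_mem_smul (hm _ (List.getElem_mem _)) trivial
        exact subsingleton_of_forall_eq 0 fun z => (Submodule.mem_bot A).mp (htop ▸ Submodule.mem_top)
    refine ⟨fun k hk => ?_⟩
    obtain ⟨_, _, hs⟩ := hS k hk
    exact ((h0Equiv P (Q k)).isSMulRegular_congr _).mp
      (isSMulRegular_of_isZero P hs 0 (key (rs.length - (k + 1)) (k + 1) (by omega) 0))

end Groth.Agent.TorRegLib
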